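import Cfsg.Agent.H667.BR.Count

/-!
# S4891, the criterion (helper667)

`rowZ_of_cnt`: a transitive `S`-set `X` with permutation character `π` invariant under automorphisms of `p`-power order,
all irreducible constituents of `π` integer valued, and the number `cnt P X` of `C_S(P)`-orbits on the `P`-fixed points
not congruent to one modulo `p`: then `RowZ p S`.
-/

set_option autoImplicit false

open scoped ComplexConjugate

namespace Cfsg.Agent.H667.BR

open Cfsg Subgroup Cfsg.Agent.Characters.Core Cfsg.Agent.Blocks.Local Cfsg.Agent.H145.BR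

universe u v w

/-! ### sums of invariant functions -/

/-- A `p`-group acting on a finite set `I`, an invariant function `f : I → ℕ` whose sum is not divisible by `p`: there is
a fixed point `i` with `f i` not divisible by `p`. -/
theorem exists_fixed_of_sum {p : ℕ} [hp : Fact p.Prime] {A : Type*} [Group A] [Finite A] (hA : IsPGroup p A) {I : Type*}
    [Fintype I] [MulAction A I] (f : I → ℕ) (hf : ∀ (a : A) (i : I), f (a • i) = f i) (hs : ¬ p ∣ ∑ i, f i) :
    ∃ i : I, (∀ a : A, a • i = i) ∧ ¬ p ∣ f i := by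
  classical
  by_contra hcon
  push Not at hcon
  let act : MulAction A (Σ i : I, Fin (f i)) :=
    { smul := fun a t => ⟨a • t.1, ⟨t.2.1, by rw [hf]; exact t.2.2⟩⟩
      one_smul := by
        rintro ⟨i, n, hn⟩
        refine Sigma.ext (one_smul A i) ?_
        change HEq (⟨n, _⟩ : Fin (f ((1 : A) • i))) (⟨n, hn⟩ : Fin (f i))
        rw [Fin.heq_ext_iff (by rw [one_smul])]
      mul_smul := by
        rintro a b ⟨i, n, hn⟩
        refine Sigma.ext (mul_smul a b i) ?_
        change HEq (⟨n, _⟩ : Fin (f ((a * b : A) • i))) (⟨n, _⟩ : Fin (f (a • b • i)))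
        rw [Fin.heq_ext_iff (by rw [mul_smul])] }
  have hsm : ∀ (a : A) (t : Σ i : I, Fin (f i)), (a • t).1 = a • t.1 := fun _ _ => rfl
  have h1 := hA.card_modEq_card_fixedPoints (Σ i : I, Fin (f i))
  have h2 : Nat.card (Σ i : I, Fin (f i)) = ∑ i, f i := by
    rw [Nat.card_sigma]
    exact Finset.sum_congr rfl fun i _ => Nat.card_fin _
  have e : MulAction.fixedPoints A (Σ i : I, Fin (f i)) ≃ Σ i : {i : I // ∀ a : A, a • i = i}, Fin (f i.1) :=
    { toFun := fun t => ⟨⟨t.1.1, fun a => by rw [← hsm, t.2 a]⟩, t.1.2⟩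
      invFun := fun t => ⟨⟨t.1.1, t.2⟩, fun a => by
        refine Sigma.ext (t.1.2 a) ?_
        change HEq (⟨t.2.1, _⟩ : Fin (f (a • t.1.1))) t.2
        rw [Fin.heq_ext_iff (by rw [t.1.2 a])]⟩
      left_inv := fun t => rfl
      right_inv := fun t => rfl }
  have h3 : p ∣ Nat.card (MulAction.fixedPoints A (Σ i : I, Fin (f i))) := by
    rw [Nat.card_congr e, Nat.card_sigma]
    refine Finset.dvd_sum fun i _ => ?_
    rw [Nat.card_fin]
    exact hcon i.1 i.2
  rw [h2] at h1
  exact hs ((Nat.modEq_zero_iff_dvd).1 (h1.trans ((Nat.modEq_zero_iff_dvd).2 h3)))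

/-! ### automorphisms and irreducible characters -/

section Aut

variable {S : Type u} [Group S]

/-- `χ ∘ a` -/
def twist (a : MulAut S) (χ : IrrCharacter S) : IrrCharacter S :=
  ⟨(χ : S → ℂ) ∘ a, isIrr_comp (a : S →* S) a.surjective χ.2⟩

theorem twist_apply (a : MulAut S) (χ : IrrCharacter S) (x : S) : (twist a χ : S → ℂ) x = (χ : S → ℂ) (a x) := rfl

/-- the action of `MulAut S` on `Irr(S)` -/
@[instance_reducible]
def autAct : MulAction (MulAut S) (IrrCharacter S) where
  smul a χ := twist a⁻¹ χ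
  one_smul χ := Subtype.ext (by
    funext x
    change (χ : S → ℂ) ((1 : MulAut S)⁻¹ x) = _
    rw [inv_one, MulAut.one_apply])
  mul_smul a b χ := Subtype.ext (by
    funext x
    change (χ : S → ℂ) ((a * b)⁻¹ x) = (χ : S → ℂ) (b⁻¹ (a⁻¹ x))
    rw [mul_inv_rev, MulAut.mul_apply])

theorem charDegree_twist (a : MulAut S) (χ : IrrCharacter S) : charDegree (twist a χ : S → ℂ) = charDegree (χ : S → ℂ) := by
  unfold charDegree
  rw [twist_apply, map_one]

theorem index_centralizer_aut (a : MulAut S) (g : S) :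
    (centralizer ({a g} : Set S)).index = (centralizer ({g} : Set S)).index := by
  have h : centralizer ({a g} : Set S) = (centralizer ({g} : Set S)).map (a : S →* S) := by
    ext x
    rw [mem_centralizer_singleton_iff, Subgroup.mem_map]
    constructor
    · intro hx
      refine ⟨a.symm x, ?_, a.apply_symm_apply x⟩
      rw [mem_centralizer_singleton_iff]
      apply a.injective
      rw [map_mul, map_mul, a.apply_symm_apply]
      exact hx
    · rintro ⟨y, hy, rfl⟩
      rw [mem_centralizer_singleton_iff] at hy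
      change a y * a g = a g * a y
      rw [← map_mul, hy, map_mul]
  rw [h]
  exact Subgroup.index_map_equiv _ a

theorem centralChar_twist (a : MulAut S) (χ : IrrCharacter S) (g : S) :
    centralChar (twist a χ : S → ℂ) g = centralChar (χ : S → ℂ) (a g) := by
  unfold centralChar
  rw [twist_apply, twist_apply, map_one, index_centralizer_aut]

theorem twist_mem {M : Ideal AlgInt} (a : MulAut S) {χ : IrrCharacter S} (h : χ ∈ principalBlock M S) :
    twist a χ ∈ principalBlock M S := by
  intro g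
  have h1 := h (a g)
  rw [centralChar_twist]
  have h2 : centralChar (fun _ : S => (1 : ℂ)) g = centralChar (fun _ : S => (1 : ℂ)) (a g) := by
    unfold centralChar
    rw [index_centralizer_aut]
  rw [h2]
  exact h1

theorem twist_mem_iff {M : Ideal AlgInt} (a : MulAut S) {χ : IrrCharacter S} :
    twist a χ ∈ principalBlock M S ↔ χ ∈ principalBlock M S := by
  refine ⟨fun h => ?_, twist_mem a⟩
  have h1 := twist_mem a⁻¹ h
  have h2 : twist a⁻¹ (twist a χ) = χ := Subtype.ext (by
    funext x
    change (χ : S → ℂ) (a (a⁻¹ x)) = _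
    rw [MulAut.apply_inv_self])
  rwa [h2] at h1

theorem mult_twist [Finite S] (X : Type v) [MulAction S X] [Finite X] (a : MulAut S)
    (ha : ∀ x, permC S X (a x) = permC S X x) (χ : IrrCharacter S) : mult X (twist a χ) = mult X χ := by
  classical
  have i := Fintype.ofFinite S
  have h : ((mult X (twist a χ) : ℕ) : ℂ) = ((mult X χ : ℕ) : ℂ) := by
    rw [← mult_eq, ← mult_eq, classInner_def, classInner_def]
    congr 1
    refine Fintype.sum_equiv a.toEquiv _ _ fun x => ?_
    change permC S X x * conj ((χ : S → ℂ) (a x)) = permC S X (a x) * conj ((χ : S → ℂ) (a x))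
    rw [ha]
  exact_mod_cast h

end Aut

/-! ### the criterion -/

section Crit

variable {S : Type u} [Group S] [Finite S] {p : ℕ} [hp : Fact p.Prime] (X : Type v) [MulAction S X] [Finite X]

/-- the trivial character -/
noncomputable def oneI (S : Type u) [Group S] : IrrCharacter S := ⟨fun _ => 1, isIrr_one⟩

/-- Burnside: the multiplicity of the trivial character -/
theorem mult_one [MulAction.IsPretransitive S X] [Nonempty X] : mult X (oneI S) = 1 := by
  classical
  have i := Fintype.ofFinite S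
  have j := Fintype.ofFinite X
  have h : ((mult X (oneI S) : ℕ) : ℂ) = ((1 : ℕ) : ℂ) := by
    rw [← mult_eq, classInner_def]
    have h1 : ∑ g : S, permC S X g * conj ((oneI S : S → ℂ) g) = (Nat.card S : ℂ) := by
      have h2 : ∀ g : S, permC S X g * conj ((oneI S : S → ℂ) g) = ((Nat.card (MulAction.fixedBy X g) : ℕ) : ℂ) := by
        intro g
        change permC S X g * conj (1 : ℂ) = _
        rw [map_one, mul_one]
        rfl
      rw [Finset.sum_congr rfl fun g _ => h2 g, ← Nat.cast_sum, ← Nat.card_sigma,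
        Nat.card_congr (MulAction.sigmaFixedByEquivOrbitsProdGroup S X), Nat.card_prod]
      have h3 : Subsingleton (Quotient (MulAction.orbitRel S X)) := by
        refine ⟨fun a b => ?_⟩
        induction a using Quotient.inductionOn
        induction b using Quotient.inductionOn
        exact Quotient.sound (MulAction.exists_smul_eq S _ _)
      have h4 : Nonempty (Quotient (MulAction.orbitRel S X)) := ⟨Quotient.mk _ (Classical.arbitrary X)⟩
      have h5 : Nat.card (Quotient (MulAction.orbitRel S X)) = 1 := Nat.card_eq_one_iff_unique.2 ⟨h3, h4⟩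
      rw [h5, one_mul]
    rw [h1, Nat.cast_one]
    exact inv_mul_cancel₀ (by exact_mod_cast Nat.card_pos.ne')
  exact_mod_cast h

/-- **Main criterion.** For every `p`-group `A` of automorphisms leaving the permutation character invariant there is a
nontrivial `A`-invariant constituent of the permutation character in the principal block, of degree prime to `p`. -/
theorem exists_const [MulAction.IsPretransitive S X] [Nonempty X] {M : Ideal AlgInt} (hM : IsPModular p M)
    (A : Subgroup (MulAut S)) (hA : IsPGroup p A) (hinv : ∀ a ∈ A, ∀ x, permC S X (a x) = permC S X x) (P : Sylow p S)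
    (hcnt : ¬ cnt (P : Subgroup S) X ≡ 1 [MOD p]) :
    ∃ θ : IrrCharacter S, θ ∈ principalBlock M S ∧ (θ : S → ℂ) ≠ (fun _ => 1) ∧ ¬ p ∣ charDegree (θ : S → ℂ) ∧
      mult X θ ≠ 0 ∧ ∀ a ∈ A, ∀ x : S, (θ : S → ℂ) (a x) = (θ : S → ℂ) x := by
  classical
  have hMp : M.IsPrime := hM.2.1.isPrime
  have hfin : Finite (IrrCharacter S) := finite_irr
  letI : Fintype (IrrCharacter S) := Fintype.ofFinite _
  letI act0 : MulAction (MulAut S) (IrrCharacter S) := autAct
  let f : IrrCharacter S → ℕ := fun χ =>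
    if χ ∈ principalBlock M S then (if χ = oneI S then 0 else charDegree (χ : S → ℂ) * mult X χ) else 0
  have hone : oneI S ∈ principalBlock M S := Cfsg.Agent.Blocks.Basic.sameBlock_refl _
  have hsum : bdeg M S X = 1 + ∑ χ, f χ := by
    unfold bdeg
    rw [← Finset.add_sum_erase Finset.univ _ (Finset.mem_univ (oneI S)),
      ← Finset.add_sum_erase Finset.univ f (Finset.mem_univ (oneI S)), if_pos hone]
    have h1 : f (oneI S) = 0 := by simp [f]
    have h2 : charDegree (oneI S : S → ℂ) = 1 := by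
      have := charDegree_cast (oneI S)
      have h10 : (oneI S : S → ℂ) 1 = 1 := rfl
      rw [h10] at this
      exact_mod_cast this.symm
    rw [h1, h2, mult_one, mul_one, zero_add]
    congr 1
    refine Finset.sum_congr rfl fun χ hχ => ?_
    simp only [f, if_neg (Finset.ne_of_mem_erase hχ)]
  have hnd : ¬ p ∣ ∑ χ, f χ := by
    intro h
    apply hcnt
    have h1 := count X hM P
    rw [hsum] at h1
    refine h1.symm.trans ?_
    have h2 : 1 + ∑ χ, f χ ≡ 1 + 0 [MOD p] := Nat.ModEq.add_left 1 ((Nat.modEq_zero_iff_dvd).2 h)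
    exact h2
  have hsmul : ∀ (a : A) (χ : IrrCharacter S), a • χ = twist ((a⁻¹ : A) : MulAut S) χ := fun _ _ => rfl
  have htw1 : ∀ (a : MulAut S) (χ : IrrCharacter S), twist a χ = oneI S ↔ χ = oneI S := by
    intro a χ
    constructor
    · intro h
      apply Subtype.ext
      funext x
      have h1 := congrArg (fun ψ : IrrCharacter S => (ψ : S → ℂ) (a⁻¹ x)) h
      change (χ : S → ℂ) (a (a⁻¹ x)) = 1 at h1
      rw [MulAut.apply_inv_self] at h1
      exact h1
    · rintro rfl
      rfl
  have hAf : Finite A := inferInstance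
  obtain ⟨θ, hθ1, hθ2⟩ := exists_fixed_of_sum hA f (by
    intro a χ
    rw [hsmul]
    simp only [f, twist_mem_iff, htw1, charDegree_twist]
    rw [mult_twist X _ (hinv _ (a⁻¹ : A).2)]) hnd
  have hθB : θ ∈ principalBlock M S := by
    by_contra h
    apply hθ2
    simp only [f, if_neg h]
    exact dvd_zero p
  have hθ0 : θ ≠ oneI S := by
    intro h
    apply hθ2
    simp only [f, if_pos hθB, if_pos h]
    exact dvd_zero p
  simp only [f, if_pos hθB, if_neg hθ0] at hθ2
  refine ⟨θ, hθB, fun h => hθ0 (Subtype.ext h), fun h => hθ2 (h.mul_right _), fun h => hθ2 (by rw [h, mul_zero]; exact dvd_zero p), ?_⟩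
  intro a ha x
  have h1 := hθ1 (⟨a, ha⟩⁻¹ : A)
  rw [hsmul, inv_inv] at h1
  exact congrArg (fun ψ : IrrCharacter S => (ψ : S → ℂ) x) h1

/-- **The criterion, `RowZ` form.** -/
theorem rowZ_of_cnt [MulAction.IsPretransitive S X] [Nonempty X]
    (hint : ∀ χ : IrrCharacter S, mult X χ ≠ 0 → ∀ g, ∃ k : ℤ, (χ : S → ℂ) g = k)
    (hinv : ∀ (a : MulAut S) (x : S), permC S X (a x) = permC S X x) (P : Sylow p S)
    (hcnt : ¬ cnt (P : Subgroup S) X ≡ 1 [MOD p]) : RowZ p S := by
  intro A hA M hM
  obtain ⟨θ, h1, h2, h3, h4, h5⟩ := exists_const X hM A hA (fun a _ x => hinv a x) P hcnt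
  exact ⟨θ, h1, h2, h3, hint θ h4, h5⟩

/-- the same; invariance only under the automorphisms of `p`-power order -/
theorem rowZ_of_cnt_pow [MulAction.IsPretransitive S X] [Nonempty X]
    (hint : ∀ χ : IrrCharacter S, mult X χ ≠ 0 → ∀ g, ∃ k : ℤ, (χ : S → ℂ) g = k)
    (hinv : ∀ (a : MulAut S) (n : ℕ), a ^ p ^ n = 1 → ∀ x : S, permC S X (a x) = permC S X x) (P : Sylow p S)
    (hcnt : ¬ cnt (P : Subgroup S) X ≡ 1 [MOD p]) : RowZ p S := by
  intro A hA M hM
  obtain ⟨θ, h1, h2, h3, h4, h5⟩ := exists_const X hM A hA (fun a ha x => by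
    obtain ⟨n, hn⟩ := hA ⟨a, ha⟩
    exact hinv a n (congrArg Subtype.val hn) x) P hcnt
  exact ⟨θ, h1, h2, h3, hint θ h4, h5⟩

/-- the `p`-rational form -/
theorem rowT_of_cnt_pow [MulAction.IsPretransitive S X] [Nonempty X]
    (hrat : ∀ χ : IrrCharacter S, mult X χ ≠ 0 → PRat p (χ : S → ℂ))
    (hinv : ∀ (a : MulAut S) (n : ℕ), a ^ p ^ n = 1 → ∀ x : S, permC S X (a x) = permC S X x) (P : Sylow p S)
    (hcnt : ¬ cnt (P : Subgroup S) X ≡ 1 [MOD p]) : RowT p S := by
  intro A hA M hM
  obtain ⟨θ, h1, h2, h3, h4, h5⟩ := exists_const X hM A hA (fun a ha x => by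
    obtain ⟨n, hn⟩ := hA ⟨a, ha⟩
    exact hinv a n (congrArg Subtype.val hn) x) P hcnt
  exact ⟨θ, ⟨h1, h2, h3, hrat θ h4⟩, h5⟩

omit hp in
/-- the multiplicity and the sum without conjugation -/
theorem finsum_eq (χ : IrrCharacter S) :
    ∑ᶠ g : S, permC S X g * (χ : S → ℂ) g = (Nat.card S : ℂ) * mult X χ := by
  classical
  have i := Fintype.ofFinite S
  rw [finsum_eq_sum_of_fintype, ← mult_eq, classInner_def, ← mul_assoc,
    mul_inv_cancel₀ (by exact_mod_cast Nat.card_pos.ne' : (Nat.card S : ℂ) ≠ 0), one_mul]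
  have h1 : ((mult X χ : ℕ) : ℂ) = conj ((mult X χ : ℕ) : ℂ) := by rw [map_natCast]
  rw [← mult_eq, classInner_def, map_mul, map_inv₀, map_natCast, map_sum] at h1
  have h2 := mul_left_cancel₀ (inv_ne_zero (by exact_mod_cast Nat.card_pos.ne' : (Nat.card S : ℂ) ≠ 0)) h1
  rw [h2]
  refine Finset.sum_congr rfl fun g _ => ?_
  rw [map_mul, permC_conj, Complex.conj_conj]

omit hp in
theorem mult_ne_zero_iff (χ : IrrCharacter S) :
    mult X χ ≠ 0 ↔ ∑ᶠ g : S, permC S X g * (χ : S → ℂ) g ≠ 0 := by
  rw [finsum_eq, mul_ne_zero_iff, Nat.cast_ne_zero, Nat.cast_ne_zero]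
  exact ⟨fun h => ⟨Nat.card_pos.ne', h⟩, fun h => h.2⟩

omit hp in
theorem mult_ne_zero_iff' [Fintype S] (χ : IrrCharacter S) :
    mult X χ ≠ 0 ↔ classInner (permC S X) (χ : S → ℂ) ≠ 0 := by
  rw [mult_eq, Nat.cast_ne_zero]

end Crit

end Cfsg.Agent.H667.BR
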