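import Cfsg.Agent.H667.BR.Comb
import Cfsg.Agent.H145.BR.RowZ
import Cfsg.Agent.S0157
import Cfsg.Agent.S0907
import Cfsg.Agent.S0940
import Cfsg.Agent.Blocks.Osima

/-!
# S4891, the count tool (helper667)

`P` a Sylow `p`-subgroup of `G`, `X` a finite `G`-set with permutation character `π`.

* `count`: the sum of `[π, χ] χ(1)` over `χ ∈ B₀(G)` is congruent modulo `p` to the number `cnt P X` of
  `C_G(P)`-orbits on the `P`-fixed points;
* `rowZ_of_cnt`: the criterion.
-/

set_option autoImplicit false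

open scoped ComplexConjugate

namespace Cfsg.Agent.H667.BR

open Cfsg Subgroup Cfsg.Agent.Characters.Core Cfsg.Agent.Blocks.Local Cfsg.Agent.H145.BR

universe u v

section Mult

variable {G : Type u} [Group G] [Finite G]

/-- the multiplicity of `χ` in the permutation character of `X`, as a natural number -/
theorem exists_mult (X : Type v) [MulAction G X] [Finite X] (χ : IrrCharacter G) :
    ∃ k : ℕ, ∀ i : Fintype G, @classInner G _ i (permC G X) (χ : G → ℂ) = k := by
  obtain ⟨k, hk⟩ := @classInner_isNat G _ (Fintype.ofFinite G) _ _ (S0157.isCharacter_fixedBy (G := G) X)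
    (isIrr_isCharacter χ.2)
  refine ⟨k, fun i => ?_⟩
  have h : i = Fintype.ofFinite G := Subsingleton.elim _ _
  subst h
  exact hk

/-- the multiplicity of `χ` in the permutation character of `X` -/
noncomputable def mult (X : Type v) [MulAction G X] [Finite X] (χ : IrrCharacter G) : ℕ := (exists_mult X χ).choose

theorem mult_eq (X : Type v) [MulAction G X] [Finite X] (χ : IrrCharacter G) [i : Fintype G] :
    classInner (permC G X) (χ : G → ℂ) = mult X χ := (exists_mult X χ).choose_spec i

end Mult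

section Count

variable {G : Type u} [Group G] [Finite G] {p : ℕ} [hp : Fact p.Prime] (X : Type v) [MulAction G X] [Finite X]
  {M : Ideal AlgInt}

open scoped Classical in
/-- the `B₀`-part of the degree of the permutation character -/
noncomputable def bdeg (M : Ideal AlgInt) (G : Type u) [Group G] [Finite G] (X : Type v) [MulAction G X] [Finite X] : ℕ :=
  haveI := finite_irr (G := G)
  letI := Fintype.ofFinite (IrrCharacter G)
  ∑ χ : IrrCharacter G, if χ ∈ principalBlock M G then charDegree (χ : G → ℂ) * mult X χ else 0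

omit [Finite G] in
theorem charDegree_cast (χ : IrrCharacter G) : (χ : G → ℂ) 1 = (charDegree (χ : G → ℂ) : ℂ) := by
  obtain ⟨n, -, hn⟩ := isIrr_apply_one χ.2
  have h : charDegree (χ : G → ℂ) = n := by
    unfold charDegree
    rw [hn]
    simp
  rw [h, hn]

omit [Finite G] in
theorem permC_conj (X : Type v) [MulAction G X] (g : G) : conj (permC G X g) = permC G X g := by
  unfold permC
  rw [map_natCast]

/-- **The trace of the block idempotent.** -/
theorem sum_blockCoeff_permC [Fintype G] :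
    ∑ g : G, blockCoeff (principalBlock M G) g * permC G X g = (bdeg M G X : ℂ) := by
  classical
  have hfin : Finite (IrrCharacter G) := finite_irr
  letI : Fintype (IrrCharacter G) := Fintype.ofFinite _
  have h3 : ∀ g : G, blockCoeff (principalBlock M G) g = (Nat.card G : ℂ)⁻¹ *
      ∑ χ : IrrCharacter G, if χ ∈ principalBlock M G then (χ : G → ℂ) 1 * conj ((χ : G → ℂ) g) else 0 :=
    fun h => Cfsg.Agent.Blocks.Osima.blockCoeff_eq_sum _ _
  have h4 : ∀ g : G, blockCoeff (principalBlock M G) g * permC G X g =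
      ∑ χ : IrrCharacter G, if χ ∈ principalBlock M G then
        (χ : G → ℂ) 1 * ((Nat.card G : ℂ)⁻¹ * (permC G X g * conj ((χ : G → ℂ) g))) else 0 := by
    intro g
    rw [h3, Finset.mul_sum, Finset.sum_mul]
    refine Finset.sum_congr rfl fun χ _ => ?_
    split_ifs
    · ring
    · ring
  rw [Finset.sum_congr rfl fun g _ => h4 g, Finset.sum_comm]
  unfold bdeg
  push_cast
  refine Finset.sum_congr rfl fun χ _ => ?_
  split_ifs
  · rw [← Finset.mul_sum, ← Finset.mul_sum, ← mult_eq, classInner_def, charDegree_cast]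
  · rw [Finset.sum_const_zero]

omit hp in
open scoped Classical in
/-- the triples, sorted by the product -/
theorem card_tri [Fintype G] : Nat.card (Tri p G X) =
    ∑ g : G, (if p ∣ orderOf g then 0 else
      Nat.card {xy : G × G // (∃ k : ℕ, orderOf xy.1 = p ^ k) ∧ ¬ p ∣ orderOf xy.2 ∧ xy.1 * xy.2 = g}) *
        Nat.card (MulAction.fixedBy X g) := by
  have e : Tri p G X ≃ (Σ g : G, {xy : G × G // (∃ k : ℕ, orderOf xy.1 = p ^ k) ∧
      ¬ p ∣ orderOf xy.2 ∧ xy.1 * xy.2 = g ∧ ¬ p ∣ orderOf g} × MulAction.fixedBy X g) :=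
    { toFun := fun t => ⟨t.1.1.1 * t.1.1.2, ⟨t.1.1, t.2.1, t.2.2.1, rfl, t.2.2.2.1⟩, ⟨t.1.2, t.2.2.2.2⟩⟩
      invFun := fun z => ⟨(z.2.1.1, z.2.2.1), z.2.1.2.1, z.2.1.2.2.1, by rw [z.2.1.2.2.2.1]; exact z.2.1.2.2.2.2, by
        rw [z.2.1.2.2.2.1]; exact z.2.2.2⟩
      left_inv := fun t => rfl
      right_inv := by
        rintro ⟨g, ⟨xy, h1, h2, h3, h4⟩, w⟩
        subst h3
        rfl }
  rw [Nat.card_congr e, Nat.card_sigma]
  refine Finset.sum_congr rfl fun g _ => ?_
  rw [Nat.card_prod]
  congr 1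
  split_ifs with hh
  · rw [Nat.card_eq_zero]
    left
    exact ⟨fun z => z.2.2.2.2 hh⟩
  · refine Nat.card_congr (Equiv.subtypeEquivRight fun xy => ?_)
    tauto

/-- **The counting formula.** -/
theorem count (hM : IsPModular p M) (P : Sylow p G) : bdeg M G X ≡ cnt (P : Subgroup G) X [MOD p] := by
  classical
  letI := Fintype.ofFinite G
  have hMp : M.IsPrime := hM.2.1.isPrime
  have hB : IsPBlock M (principalBlock M G) :=
    ⟨⟨fun _ => 1, Cfsg.Agent.Blocks.Basic.isIrrCharacter_one⟩, rfl⟩
  set R : ℕ := Nat.card {y : G // ¬ p ∣ orderOf y} with hR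
  have hR0 : (R : ℂ) ≠ 0 := by
    have : Nonempty {y : G // ¬ p ∣ orderOf y} := ⟨⟨1, by rw [orderOf_one]; exact hp.out.not_dvd_one⟩⟩
    exact_mod_cast (Nat.card_pos (α := {y : G // ¬ p ∣ orderOf y})).ne'
  let N : G → ℕ := fun g => if p ∣ orderOf g then 0 else
      Nat.card {xy : G × G // (∃ k : ℕ, orderOf xy.1 = p ^ k) ∧ ¬ p ∣ orderOf xy.2 ∧ xy.1 * xy.2 = g}
  have h1 : ∀ g : G, MemLocalIdeal M (blockCoeff (principalBlock M G) g - (N g : ℂ) / (R : ℂ)) := by
    intro g
    by_cases hh : p ∣ orderOf g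
    · have h2 : blockCoeff (principalBlock M G) g = 0 := by
        rw [Cfsg.Agent.Blocks.Basic.blockCoeff_def,
          Cfsg.Agent.S0907.result p M hM _ hB 1 g (by rw [orderOf_one]; exact hp.out.not_dvd_one) hh, mul_zero]
      simp only [N, hh, if_true, h2]
      simpa using Cfsg.Agent.Blocks.Local.memLocalIdeal_zero
    · simp only [N, hh, if_false]
      exact Cfsg.Agent.S0940.result p M hM g hh
  have h2 : MemLocalIdeal M (∑ g : G, blockCoeff (principalBlock M G) g * permC G X g -
      ∑ g : G, (N g : ℂ) / (R : ℂ) * permC G X g) := by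
    rw [← Finset.sum_sub_distrib]
    refine memLocalIdeal_sum fun g _ => ?_
    rw [← sub_mul]
    exact memLocalIdeal_mul_right (h1 g) (memLocalRing_natCast _)
  have h3 : MemLocalIdeal M ((R : ℂ) * (∑ g : G, blockCoeff (principalBlock M G) g * permC G X g -
      ∑ g : G, (N g : ℂ) / (R : ℂ) * permC G X g)) := memLocalIdeal_mul_left (memLocalRing_natCast R) h2
  have h4 : (R : ℂ) * ∑ g : G, (N g : ℂ) / (R : ℂ) * permC G X g = ((Nat.card (Tri p G X) : ℕ) : ℂ) := by
    rw [Finset.mul_sum, card_tri]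
    push_cast
    refine Finset.sum_congr rfl fun g _ => ?_
    rw [← mul_assoc, mul_div_cancel₀ _ hR0]
    unfold permC
    congr 1
    simp only [N]
    split_ifs <;> simp
  rw [mul_sub, h4, sum_blockCoeff_permC, ← Nat.cast_mul] at h3
  have h5 : MemLocalIdeal M ((((R * bdeg M G X : ℕ) : ℤ) - ((Nat.card (Tri p G X) : ℕ) : ℤ) : ℤ) : ℂ) := by
    push_cast at h3 ⊢
    exact h3
  rw [memLocalIdeal_intCast_iff hM] at h5
  have h6 : Nat.card (Tri p G X) ≡ R * bdeg M G X [MOD p] := (Nat.modEq_iff_dvd).2 h5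
  have h7 : R * bdeg M G X ≡ Nat.card (CReg P) * bdeg M G X [MOD p] := (card_regular_modEq P).mul_right _
  have h8 := card_triples_modEq X P
  rw [card_pairs, mul_comm] at h8
  have h9 : Nat.card (CReg P) * bdeg M G X ≡ Nat.card (CReg P) * cnt (P : Subgroup G) X [MOD p] :=
    h7.symm.trans (h6.symm.trans h8)
  refine Nat.ModEq.cancel_left_of_coprime ?_ h9
  exact (Nat.Prime.coprime_iff_not_dvd hp.out).2 (not_dvd_card_creg P)

end Count

end Cfsg.Agent.H667.BR
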