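import Cfsg.Agent.H145.BR.CountDefs
import Cfsg.Agent.Blocks.RegularCount
import Cfsg.Agent.Blocks.PPart
import Cfsg.Agent.H656.OverPrincipal

/-!
# S4891, the count tool: the combinatorial part (helper667)

`P` a Sylow `p`-subgroup of `G`, `X` a finite `G`-set.

* `card_regular_modEq`: the number of `p`-regular elements of `G` is congruent to the one of `C_G(P)`;
* `card_triples_modEq`: the number of triples `(x, y, ω)`, `x` a `p`-element, `y` and `x y` `p`-regular, `x y ω = ω`, is
  congruent to the number of pairs `(y, ω)`, `y` a `p`-regular element of `C_G(P)`, `ω` a `P`-fixed point, `y ω = ω`;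
* `card_pairs`: the number of these pairs is the number of `C_G(P)`-orbits on the `P`-fixed points times the number of
  `p`-regular elements of `C_G(P)`.
-/

set_option autoImplicit false

namespace Cfsg.Agent.H667.BR

open Cfsg Subgroup Cfsg.Agent.Blocks.RegularCount

universe u v

variable {G : Type u} [Group G] [Finite G] {p : ℕ} [hp : Fact p.Prime]

/-- the `p`-regular elements of the centralizer of `P` -/
abbrev CReg (P : Sylow p G) : Type u := {y : centralizer ((P : Subgroup G) : Set G) // ¬ p ∣ orderOf y}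

/-- the `P`-fixed points -/
abbrev Fx (P : Subgroup G) (X : Type v) [MulAction G X] : Type v := {x : X // ∀ g ∈ P, g • x = x}

theorem not_dvd_card_creg (P : Sylow p G) : ¬ p ∣ Nat.card (CReg P) := card_regular_centralizer P

theorem card_regular_modEq (P : Sylow p G) : Nat.card {x : G // ¬ p ∣ orderOf x} ≡ Nat.card (CReg P) [MOD p] := by
  let X := {x : G // ¬ p ∣ orderOf x}
  let act : MulAction P X :=
    { smul := fun g x => ⟨(g : G) * x.1 * (g : G)⁻¹, by
        have : orderOf ((g : G) * x.1 * (g : G)⁻¹) = orderOf x.1 := (MulAut.conj (g : G)).orderOf_eq x.1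
        rw [this]
        exact x.2⟩
      one_smul := fun x => by
        apply Subtype.ext
        change ((1 : P) : G) * x.1 * ((1 : P) : G)⁻¹ = x.1
        simp
      mul_smul := fun g h x => by
        apply Subtype.ext
        change ((g * h : P) : G) * x.1 * ((g * h : P) : G)⁻¹ = (g : G) * ((h : G) * x.1 * (h : G)⁻¹) * (g : G)⁻¹
        rw [Subgroup.coe_mul]
        group }
  have hsmul : ∀ (g : P) (x : X), ((g • x : X) : G) = (g : G) * x.1 * (g : G)⁻¹ := fun _ _ => rfl
  have h1 : Nat.card X ≡ Nat.card (MulAction.fixedPoints P X) [MOD p] := P.isPGroup'.card_modEq_card_fixedPoints X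
  have hmem : ∀ x : X, x ∈ MulAction.fixedPoints P X ↔ (x : G) ∈ Subgroup.centralizer (P : Set G) := by
    intro x
    rw [MulAction.mem_fixedPoints, Subgroup.mem_centralizer_iff]
    constructor
    · intro h g hg
      have := congrArg (Subtype.val) (h ⟨g, hg⟩)
      rw [hsmul] at this
      exact mul_inv_eq_iff_eq_mul.1 this
    · intro h g
      apply Subtype.ext
      rw [hsmul]
      exact mul_inv_eq_iff_eq_mul.2 (h _ g.2)
  have e : MulAction.fixedPoints P X ≃ {x : Subgroup.centralizer (P : Set G) // ¬ p ∣ orderOf x} :=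
    { toFun := fun x => ⟨⟨x.1.1, (hmem x.1).1 x.2⟩, by rw [Subgroup.orderOf_mk]; exact x.1.2⟩
      invFun := fun x => ⟨⟨x.1.1, by rw [Subgroup.orderOf_coe]; exact x.2⟩, (hmem _).2 x.1.2⟩
      left_inv := fun x => rfl
      right_inv := fun x => rfl }
  rw [Nat.card_congr e] at h1
  exact h1

variable (X : Type v) [MulAction G X]

/-- the triples -/
abbrev Tri (p : ℕ) (G : Type u) [Group G] (X : Type v) [MulAction G X] : Type (max u v) :=
  {t : (G × G) × X // (∃ k : ℕ, orderOf t.1.1 = p ^ k) ∧ ¬ p ∣ orderOf t.1.2 ∧ ¬ p ∣ orderOf (t.1.1 * t.1.2) ∧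
    (t.1.1 * t.1.2) • t.2 = t.2}

/-- the pairs -/
abbrev Prs (P : Sylow p G) (X : Type v) [MulAction G X] : Type (max u v) :=
  {t : CReg P × Fx (P : Subgroup G) X // (t.1.1 : G) • (t.2 : X) = t.2}

theorem card_triples_modEq [Finite X] (P : Sylow p G) : Nat.card (Tri p G X) ≡ Nat.card (Prs P X) [MOD p] := by
  letI act : MulAction P (Tri p G X) :=
    { smul := fun g t => ⟨(((g : G) * t.1.1.1 * (g : G)⁻¹, (g : G) * t.1.1.2 * (g : G)⁻¹), (g : G) • t.1.2), by
        obtain ⟨⟨⟨x, y⟩, w⟩, hx, hy, hr, hf⟩ := t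
        have h1 : (g : G) * x * (g : G)⁻¹ * ((g : G) * y * (g : G)⁻¹) = (g : G) * (x * y) * (g : G)⁻¹ := by group
        refine ⟨?_, ?_, ?_, ?_⟩
        · rw [H656.OverPrincipal.orderOf_conj]; exact hx
        · rw [H656.OverPrincipal.orderOf_conj]; exact hy
        · rw [h1, H656.OverPrincipal.orderOf_conj]; exact hr
        · rw [h1, smul_smul, inv_mul_cancel_right, mul_smul]
          exact congrArg _ hf⟩
      one_smul := by
        rintro ⟨⟨⟨x, y⟩, w⟩, h⟩
        apply Subtype.ext
        change ((((1 : P) : G) * x * ((1 : P) : G)⁻¹, ((1 : P) : G) * y * ((1 : P) : G)⁻¹), ((1 : P) : G) • w) =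
          ((x, y), w)
        simp
      mul_smul := by
        rintro g h ⟨⟨⟨x, y⟩, w⟩, hxy⟩
        apply Subtype.ext
        change ((((g * h : P) : G) * x * ((g * h : P) : G)⁻¹, ((g * h : P) : G) * y * ((g * h : P) : G)⁻¹),
          ((g * h : P) : G) • w) =
          (((g : G) * ((h : G) * x * (h : G)⁻¹) * (g : G)⁻¹, (g : G) * ((h : G) * y * (h : G)⁻¹) * (g : G)⁻¹),
            (g : G) • (h : G) • w)
        simp only [Subgroup.coe_mul, mul_inv_rev, mul_assoc, mul_smul] }
  have hsmul : ∀ (g : P) (t : Tri p G X), (g • t).1 =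
      (((g : G) * t.1.1.1 * (g : G)⁻¹, (g : G) * t.1.1.2 * (g : G)⁻¹), (g : G) • t.1.2) := fun _ _ => rfl
  have h1 := P.isPGroup'.card_modEq_card_fixedPoints (Tri p G X)
  have hfix : ∀ t : Tri p G X, t ∈ MulAction.fixedPoints P (Tri p G X) ↔
      t.1.1.1 = 1 ∧ t.1.1.2 ∈ Subgroup.centralizer ((P : Subgroup G) : Set G) ∧ ∀ g ∈ (P : Subgroup G), g • t.1.2 = t.1.2 := by
    intro t
    rw [MulAction.mem_fixedPoints]
    constructor
    · intro h
      have hx : t.1.1.1 ∈ Subgroup.centralizer ((P : Subgroup G) : Set G) := by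
        rw [Subgroup.mem_centralizer_iff]
        intro g hg
        have h3 := congrArg (fun z : Tri p G X => z.1.1.1) (h ⟨g, hg⟩)
        simp only [hsmul] at h3
        rw [mul_inv_eq_iff_eq_mul] at h3
        exact h3
      have hy : t.1.1.2 ∈ Subgroup.centralizer ((P : Subgroup G) : Set G) := by
        rw [Subgroup.mem_centralizer_iff]
        intro g hg
        have h3 := congrArg (fun z : Tri p G X => z.1.1.2) (h ⟨g, hg⟩)
        simp only [hsmul] at h3
        rw [mul_inv_eq_iff_eq_mul] at h3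
        exact h3
      refine ⟨?_, hy, ?_⟩
      · have hxP := mem_sylow_of_mem_centralizer P hx t.2.1
        have hcomm : Commute t.1.1.1 t.1.1.2 := by
          rw [Subgroup.mem_centralizer_iff] at hy
          exact hy _ hxP
        have h4 : IsPPart p (t.1.1.1 * t.1.1.2) t.1.1.1 := ⟨t.1.1.2, rfl, hcomm, t.2.1, t.2.2.1⟩
        have h5 : IsPPart p (t.1.1.1 * t.1.1.2) 1 :=
          ⟨t.1.1.1 * t.1.1.2, one_mul _, Commute.one_left _, ⟨0, by simp⟩, t.2.2.2.1⟩
        exact Cfsg.Agent.Blocks.PPart.isPPart_unique h4 h5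
      · intro g hg
        have h3 := congrArg (fun z : Tri p G X => z.1.2) (h ⟨g, hg⟩)
        simp only [hsmul] at h3
        exact h3
    · rintro ⟨hx, hy, hw⟩ g
      apply Subtype.ext
      rw [hsmul]
      rw [Subgroup.mem_centralizer_iff] at hy
      have h3 := hy g g.2
      refine Prod.ext (Prod.ext ?_ ?_) ?_
      · change (g : G) * t.1.1.1 * (g : G)⁻¹ = t.1.1.1
        rw [hx]; simp
      · change (g : G) * t.1.1.2 * (g : G)⁻¹ = t.1.1.2
        rw [h3, mul_assoc, mul_inv_cancel, mul_one]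
      · exact hw g g.2
  have e : MulAction.fixedPoints P (Tri p G X) ≃ Prs P X :=
    { toFun := fun t => ⟨(⟨⟨t.1.1.1.2, ((hfix t.1).1 t.2).2.1⟩, by rw [Subgroup.orderOf_mk]; exact t.1.2.2.1⟩,
        ⟨t.1.1.2, ((hfix t.1).1 t.2).2.2⟩), by
          have h3 := t.1.2.2.2.2
          rw [((hfix t.1).1 t.2).1, one_mul] at h3
          exact h3⟩
      invFun := fun t => ⟨⟨((1, (t.1.1.1 : G)), (t.1.2 : X)), by
          have h3 : ¬ p ∣ orderOf (t.1.1.1 : G) := by
            rw [Subgroup.orderOf_coe]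
            exact t.1.1.2
          exact ⟨⟨0, by simp⟩, h3, by simpa using h3, by simpa using t.2⟩⟩,
        (hfix _).2 ⟨rfl, t.1.1.1.2, t.1.2.2⟩⟩
      left_inv := by
        rintro ⟨t, ht⟩
        apply Subtype.ext
        apply Subtype.ext
        exact Prod.ext (Prod.ext ((hfix t).1 ht).1.symm rfl) rfl
      right_inv := fun t => rfl }
  rw [Nat.card_congr e] at h1
  exact h1

/-- the action of the centralizer on the fixed points -/
@[instance_reducible]
def fxAct (P : Subgroup G) : MulAction (centralizer (P : Set G)) (Fx P X) where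
  smul c x := ⟨(c : G) • (x : X), fun g hg => by
    rw [smul_smul, mem_centralizer_iff.1 c.2 g hg, mul_smul, x.2 g hg]⟩
  one_smul x := Subtype.ext (one_smul G (x : X))
  mul_smul a b x := Subtype.ext (mul_smul (a : G) (b : G) (x : X))

/-- **Burnside** -/
theorem card_pairs [Finite X] (P : Sylow p G) :
    Nat.card (Prs P X) = H145.BR.cnt (P : Subgroup G) X * Nat.card (CReg P) := by
  set C := centralizer ((P : Subgroup G) : Set G) with hC
  letI act : MulAction C (Fx (P : Subgroup G) X) := fxAct X (P : Subgroup G)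
  have hsm : ∀ (c : C) (x : Fx (P : Subgroup G) X), ((c • x : Fx (P : Subgroup G) X) : X) = (c : G) • (x : X) :=
    fun _ _ => rfl
  set Z : Subgroup C := (P : Subgroup G).subgroupOf C with hZ
  have hcent : ∀ z ∈ Z, ∀ h : C, z * h = h * z := by
    intro z hz h
    ext
    exact (Subgroup.mem_centralizer_iff.1 h.2 _ (Subgroup.mem_subgroupOf.1 hz))
  have hZp : ∀ z ∈ Z, ∃ k : ℕ, orderOf z = p ^ k := fun z hz => by
    have h1 : IsPGroup p Z := P.isPGroup'.comap_subtype
    obtain ⟨k, hk⟩ := (IsPGroup.iff_orderOf.1 h1) ⟨z, hz⟩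
    exact ⟨k, by rw [← hk]; exact (Subgroup.orderOf_mk (H := Z) z hz).symm⟩
  have hpZ : ∀ h : C, (∃ k : ℕ, orderOf h = p ^ k) → h ∈ Z := by
    intro h hh
    rw [Subgroup.mem_subgroupOf]
    exact mem_sylow_of_mem_centralizer P h.2 (by simpa using hh)
  have hZfix : ∀ z ∈ Z, ∀ x : Fx (P : Subgroup G) X, z • x = x := fun z hz x =>
    Subtype.ext (x.2 _ (Subgroup.mem_subgroupOf.1 hz))
  -- the bijection
  let φ : Z × CReg P → C := fun q => (q.1 : C) * q.2.1
  have hφ : Function.Bijective φ := by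
    constructor
    · rintro ⟨⟨z, hz⟩, ⟨y, hy⟩⟩ ⟨⟨z', hz'⟩, ⟨y', hy'⟩⟩ h
      change z * y = z' * y' at h
      have h1 : IsPPart p (z * y) z := ⟨y, rfl, hcent z hz y, hZp z hz, hy⟩
      have h2 : IsPPart p (z * y) z' := ⟨y', h.symm, hcent z' hz' y', hZp z' hz', hy'⟩
      have h3 := Cfsg.Agent.Blocks.PPart.isPPart_unique h1 h2
      subst h3
      have h4 := mul_left_cancel h
      subst h4
      rfl
    · intro h
      obtain ⟨x, y, hxy, _, _, _, hx, hy⟩ := exists_pPart (p := p) h
      exact ⟨(⟨x, hpZ x hx⟩, ⟨y, hy⟩), hxy⟩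
  let E := Equiv.ofBijective φ hφ
  have hcard : Nat.card Z * Nat.card (CReg P) = Nat.card C := by
    rw [← Nat.card_prod]
    exact Nat.card_congr E
  -- `(c, x)` with `c x = x`
  have e1 : Z × Prs P X ≃ {t : C × Fx (P : Subgroup G) X // t.1 • t.2 = t.2} :=
    { toFun := fun t => ⟨((t.1 : C) * t.2.1.1.1, t.2.1.2), by
        rw [mul_smul]
        have h1 : (t.2.1.1.1 : C) • t.2.1.2 = t.2.1.2 := Subtype.ext t.2.2
        rw [h1]
        exact hZfix _ t.1.2 _⟩
      invFun := fun t => ((E.symm t.1.1).1, ⟨((E.symm t.1.1).2, t.1.2), by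
        have h1 : ((E.symm t.1.1).1 : C) * (E.symm t.1.1).2.1 = t.1.1 := E.apply_symm_apply t.1.1
        have h2 := t.2
        rw [← h1, mul_smul] at h2
        have h3 : ((E.symm t.1.1).2.1 : C) • t.1.2 = t.1.2 := by
          have h4 := hZfix ((E.symm t.1.1).1 : C)⁻¹ (Z.inv_mem (E.symm t.1.1).1.2) t.1.2
          have h5 := congrArg (fun y => ((E.symm t.1.1).1 : C)⁻¹ • y) h2
          simp only [inv_smul_smul] at h5
          rw [h5, h4]
        exact congrArg Subtype.val h3⟩)
      left_inv := by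
        rintro ⟨z, ⟨⟨y, x⟩, h⟩⟩
        have h1 : E.symm ((z : C) * y.1) = (z, y) := by
          rw [Equiv.symm_apply_eq]
          rfl
        simp only [h1]
      right_inv := by
        rintro ⟨⟨c, x⟩, h⟩
        apply Subtype.ext
        refine Prod.ext ?_ rfl
        exact E.apply_symm_apply c }
  have e2 : {t : C × Fx (P : Subgroup G) X // t.1 • t.2 = t.2} ≃
      (Quotient (MulAction.orbitRel C (Fx (P : Subgroup G) X))) × C := by
    refine Equiv.trans ?_ (MulAction.sigmaFixedByEquivOrbitsProdGroup C (Fx (P : Subgroup G) X))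
    exact
      { toFun := fun t => ⟨t.1.1, ⟨t.1.2, t.2⟩⟩
        invFun := fun t => ⟨(t.1, t.2.1), t.2.2⟩
        left_inv := fun t => rfl
        right_inv := fun t => rfl }
  have h1 : Nat.card Z * Nat.card (Prs P X) =
      Nat.card (Quotient (MulAction.orbitRel C (Fx (P : Subgroup G) X))) * (Nat.card Z * Nat.card (CReg P)) := by
    rw [hcard, ← Nat.card_prod, ← Nat.card_prod]
    exact Nat.card_congr (e1.trans e2)
  have h2 : Nat.card (Quotient (MulAction.orbitRel C (Fx (P : Subgroup G) X))) = H145.BR.cnt (P : Subgroup G) X := by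
    unfold H145.BR.cnt
    refine Nat.card_congr (Quot.congrRight ?_)
    intro x y
    change x ∈ MulAction.orbit C y ↔ _
    constructor
    · rintro ⟨c, hc⟩
      refine ⟨(c⁻¹ : C), (c⁻¹ : C).2, ?_⟩
      have h3 : (c⁻¹ : C) • x = y := by rw [← hc]; exact inv_smul_smul c y
      exact congrArg Subtype.val h3
    · rintro ⟨c, hc, h3⟩
      refine ⟨(⟨c, hc⟩ : C)⁻¹, ?_⟩
      change (⟨c, hc⟩ : C)⁻¹ • y = x
      rw [inv_smul_eq_iff]
      exact Subtype.ext h3.symm
  rw [h2] at h1
  have h3 : 0 < Nat.card Z := Nat.card_pos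
  refine Nat.eq_of_mul_eq_mul_left h3 ?_
  rw [h1]
  ring

end Cfsg.Agent.H667.BR
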